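import Groth.Agent.ResProp.EF.K58.Frame
import Groth.Agent.ResProp.EF.K653.FreeGL
import Mathlib.LinearAlgebra.Matrix.Block

/-!
# `O(Stab(e_{i₀}))` is a free module

`Fr i₀ e_{i₀} = k[x_ij (j ≠ i₀)][1/det]`, the matrix having column `i₀` equal to `e_{i₀}`: the determinant is that of the
block without row and column `i₀`, a square matrix of distinct variables.
-/

set_option autoImplicit false
set_option linter.unusedSectionVars false
set_option linter.style.haveILetI false

namespace Groth.Agent.ResProp.EF.K41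

universe u

open K58

variable {k : Type u} [CommRing k] {n : Type} [Fintype n] [DecidableEq n] (i₀ : n)

/-- the variables of the block without row and column `i₀` -/
def blk : {j : n // ¬ j = i₀} → {j : n // ¬ j = i₀} → n × {j : n // j ≠ i₀} := fun i j => (i.1, j)

theorem blk_injective : Function.Injective fun p : {j : n // ¬ j = i₀} × {j : n // ¬ j = i₀} => blk i₀ p.1 p.2 := by
  rintro ⟨a, b⟩ ⟨a', b'⟩ h
  have h' : (a.1, b) = (a'.1, b') := h
  rw [Prod.mk.injEq] at h' ⊢
  exact ⟨Subtype.ext h'.1, h'.2⟩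

theorem mul_eq_of_one {R : Type*} [MulOneClass R] {a b c : R} (h : a = 1) (h' : b = c) : a * b = c := by
  rw [h, h', one_mul]

theorem det_mat0 (φ : n → k) (h1 : φ i₀ = 1) (h0 : ∀ i, i ≠ i₀ → φ i = 0) :
    (mat0 i₀ φ).det = (K653.FreeGL.vm (R := k) (blk i₀)).det := by
  rw [Matrix.twoBlockTriangular_det (mat0 i₀ φ) (fun i => i = i₀)]
  · refine mul_eq_of_one ?_ ?_
    · refine Eq.trans (b := Matrix.toSquareBlockProp (mat0 i₀ φ) (fun i => i = i₀) ⟨i₀, rfl⟩ ⟨i₀, rfl⟩) ?_ ?_
      · convert Matrix.det_eq_elem_of_subsingleton (Matrix.toSquareBlockProp (mat0 i₀ φ) fun i => i = i₀)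
          (⟨i₀, rfl⟩ : {a : n // a = i₀})
      rw [Matrix.toSquareBlockProp_def, Matrix.of_apply, mat0, dif_pos rfl, h1, map_one]
    · congr 1
      ext1 i j
      rw [Matrix.toSquareBlockProp_def, Matrix.of_apply, mat0, dif_neg j.2]
      rfl
  · rintro i hi j rfl
    rw [mat0, dif_pos rfl, h0 i hi, map_zero]

/-- **(D5, freeness)** the coordinate ring of `{g : g e_{i₀} = e_{i₀}}` is free, for any `φ` equal to `e_{i₀}` -/
theorem free_Fr (φ : n → k) (h1 : φ i₀ = 1) (h0 : ∀ i, i ≠ i₀ → φ i = 0) : Module.Free k (Fr i₀ φ) := by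
  haveI : IsLocalization.Away (K653.FreeGL.vm (R := k) (blk i₀)).det (Fr i₀ φ) := by
    rw [← det_mat0 i₀ φ h1 h0]
    infer_instance
  exact K653.FreeGL.free_away_det (R := k) (blk_injective i₀) (Fr i₀ φ)

instance free_stab : Module.Free k (Fr i₀ (Pi.single i₀ (1 : k) : n → k)) :=
  free_Fr i₀ _ (by simp) fun i hi => by simp [hi]

end Groth.Agent.ResProp.EF.K41
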