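import Groth.Agent.ResProp.EF.K374.StabFr
import Groth.Agent.ResProp.EF.K41.StabFree
import Groth.Agent.ResProp.EF.K653.GpGL
import Groth.Agent.ResProp.EF.K711.Stab
import Groth.Agent.ResProp.EF.K749.OutDef

/-!
# `H = Stab(e_1) × G' → G = GL_(t+1) × GL_t × G'`

`StabUniv St h` : the matrix `h` over `O(St)` is universal; `phi : O(G) →ₐc O(H)`; `stabData : K711.StabData phi t`.
-/

set_option autoImplicit false
set_option maxHeartbeats 400000

universe u

open TensorProduct
open Groth.Agent.ResProp.EF.Grp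

noncomputable section

namespace Groth.Agent.ResProp.EF.K41

/-! ### bialgebra maps `A → A ⊗ B ← B`, `A ⊗ B → C` -/

section Bi

variable {k : Type u} [CommRing k] (A B : Type u) [CommRing A] [CommRing B] [Bialgebra k A] [Bialgebra k B]

/-- `a ↦ a ⊗ 1` -/
def inl : A →ₐc[k] A ⊗[k] B :=
  BialgHom.ofAlgHom (Algebra.TensorProduct.includeLeft : A →ₐ[k] A ⊗[k] B)
    (by
      ext a
      simp)
    (by
      ext a
      change _ = Coalgebra.comul (R := k) (a ⊗ₜ[k] (1 : B))
      rw [TensorProduct.comul_tmul, Bialgebra.comul_one]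
      change Algebra.TensorProduct.map _ _ (Coalgebra.comul (R := k) a) = _
      generalize Coalgebra.comul (R := k) a = z
      induction z using TensorProduct.induction_on with
      | zero => simp
      | add x y hx hy => rw [map_add, hx, hy, TensorProduct.add_tmul, map_add]
      | tmul x y => simp [Algebra.TensorProduct.one_def])

@[simp] theorem inl_apply (a : A) : inl (k := k) A B a = a ⊗ₜ[k] (1 : B) := rfl

/-- `b ↦ 1 ⊗ b` -/
def inr : B →ₐc[k] A ⊗[k] B :=
  BialgHom.ofAlgHom (Algebra.TensorProduct.includeRight : B →ₐ[k] A ⊗[k] B)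
    (by
      ext a
      simp)
    (by
      ext a
      change _ = Coalgebra.comul (R := k) ((1 : A) ⊗ₜ[k] a)
      rw [TensorProduct.comul_tmul, Bialgebra.comul_one]
      change Algebra.TensorProduct.map _ _ (Coalgebra.comul (R := k) a) = _
      generalize Coalgebra.comul (R := k) a = z
      induction z using TensorProduct.induction_on with
      | zero => simp
      | add x y hx hy => rw [map_add, hx, hy, TensorProduct.tmul_add, map_add]
      | tmul x y => simp [Algebra.TensorProduct.one_def])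

@[simp] theorem inr_apply (b : B) : inr (k := k) A B b = (1 : A) ⊗ₜ[k] b := rfl

variable {A B} {C : Type u} [CommRing C] [Bialgebra k C]

/-- `a ⊗ b ↦ f a * g b` -/
def pair (f : A →ₐc[k] C) (g : B →ₐc[k] C) : A ⊗[k] B →ₐc[k] C :=
  (Bialgebra.mulBialgHom k C).comp (Bialgebra.TensorProduct.map f g)

@[simp] theorem pair_tmul (f : A →ₐc[k] C) (g : B →ₐc[k] C) (a : A) (b : B) :
    pair f g (a ⊗ₜ[k] b) = f a * g b := rfl

/-- a bialgebra map respects comultiplications -/
theorem comul_bialgHom (f : A →ₐc[k] C) (a : A) : Coalgebra.comul (R := k) (f a) =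
    Algebra.TensorProduct.map (f : A →ₐ[k] C) (f : A →ₐ[k] C) (Coalgebra.comul (R := k) a) :=
  (CoalgHomClass.map_comp_comul_apply f a).symm

end Bi

/-! ### points of `GL_n` -/

section GLpts

variable {k : Type u} [CommRing k] {n : ℕ}

theorem gl_ext {B : Type u} [CommRing B] [Algebra k B] {f g : CoordGrp.GLn n k →ₐ[k] B}
    (h : ∀ i j, f (CoordGrp.GLn.X i j) = g (CoordGrp.GLn.X i j)) : f = g := by
  refine CoordGrp.GLn.algHom_ext h ?_
  have hd : f CoordGrp.GLn.det = g CoordGrp.GLn.det := by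
    rw [CoordGrp.GLn.det_eq, AlgHom.map_det, AlgHom.map_det]
    congr 1
    ext i j
    exact h i j
  have h1 : f CoordGrp.GLn.det * f CoordGrp.GLn.Dinv = 1 := by
    rw [← map_mul, CoordGrp.GLn.det_mul_Dinv, map_one]
  have h2 : g CoordGrp.GLn.det * g CoordGrp.GLn.Dinv = 1 := by
    rw [← map_mul, CoordGrp.GLn.det_mul_Dinv, map_one]
  calc f CoordGrp.GLn.Dinv = f CoordGrp.GLn.Dinv * (g CoordGrp.GLn.det * g CoordGrp.GLn.Dinv) := by rw [h2, mul_one]
    _ = (f CoordGrp.GLn.det * f CoordGrp.GLn.Dinv) * g CoordGrp.GLn.Dinv := by rw [hd]; ring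
    _ = g CoordGrp.GLn.Dinv := by rw [h1, one_mul]

/-- the point of `GL_n` with matrix `M` -/
def glPt {B : Type u} [CommRing B] [Algebra k B] (M : Matrix (Fin n) (Fin n) B) (hM : IsUnit M.det) :
    CoordGrp.GLn n k →ₐ[k] B :=
  CoordGrp.GLn.pt n k M (↑hM.unit⁻¹ : B) hM.mul_val_inv

@[simp] theorem glPt_X {B : Type u} [CommRing B] [Algebra k B] (M : Matrix (Fin n) (Fin n) B) (hM : IsUnit M.det)
    (i j : Fin n) : glPt (k := k) M hM (CoordGrp.GLn.X i j) = M i j := CoordGrp.GLn.pt_X _ _ _ _ _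

/-- the bialgebra map `O(GL_n) → B` given by a group-like matrix -/
def glHom {B : Type u} [CommRing B] [Bialgebra k B] (M : Matrix (Fin n) (Fin n) B) (hM : IsUnit M.det)
    (hc : ∀ i j, Coalgebra.comul (R := k) (M i j) = ∑ l, M i l ⊗ₜ[k] M l j)
    (he : ∀ i j, Coalgebra.counit (R := k) (M i j) = if i = j then (1 : k) else 0) :
    CoordGrp.GLn n k →ₐc[k] B :=
  BialgHom.ofAlgHom (glPt M hM)
    (gl_ext fun i j => by
      change Coalgebra.counit (R := k) (glPt M hM (CoordGrp.GLn.X i j)) =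
        Coalgebra.counit (R := k) (CoordGrp.GLn.X i j : CoordGrp.GLn n k)
      rw [glPt_X, he]
      exact (CoordGrp.GLn.counit_X i j).symm)
    (gl_ext fun i j => by
      change Algebra.TensorProduct.map _ _ (Coalgebra.comul (R := k) (CoordGrp.GLn.X i j : CoordGrp.GLn n k)) =
        Coalgebra.comul (R := k) (glPt M hM (CoordGrp.GLn.X i j))
      rw [glPt_X, hc]
      refine (congrArg _ (CoordGrp.GLn.comul_X i j)).trans ?_
      rw [map_sum]
      refine Finset.sum_congr rfl fun l _ => ?_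
      rw [Algebra.TensorProduct.map_tmul, glPt_X, glPt_X])

@[simp] theorem glHom_X {B : Type u} [CommRing B] [Bialgebra k B] (M : Matrix (Fin n) (Fin n) B) (hM : IsUnit M.det)
    (hc : ∀ i j, Coalgebra.comul (R := k) (M i j) = ∑ l, M i l ⊗ₜ[k] M l j)
    (he : ∀ i j, Coalgebra.counit (R := k) (M i j) = if i = j then (1 : k) else 0) (i j : Fin n) :
    glHom M hM hc he (CoordGrp.GLn.X i j) = M i j := glPt_X M hM i j

end GLpts

/-! ### the map -/

section Main

variable {k : Type u} [CommRing k] {t : ℕ}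

/-- `St` is the group of matrices with first column `e_1` -/
structure StabUniv (St : Gp k) (h : Matrix (Fin (t + 1)) (Fin (t + 1)) St.O) : Prop where
  col : ∀ i, h i 0 = if i = 0 then 1 else 0
  det : IsUnit h.det
  comul : ∀ i j, Coalgebra.comul (R := k) (h i j) = ∑ l, h i l ⊗ₜ[k] h l j
  counit : ∀ i j, Coalgebra.counit (R := k) (h i j) = if i = j then (1 : k) else 0
  lift : ∀ (R : Type u) [CommRing R] [Algebra k R] (M : Matrix (Fin (t + 1)) (Fin (t + 1)) R),
    (∀ i, M i 0 = if i = 0 then 1 else 0) → IsUnit M.det → ∃ F : St.O →ₐ[k] R, ∀ i j, F (h i j) = M i j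
  ext : ∀ (R : Type u) [CommRing R] [Algebra k R] (F F' : St.O →ₐ[k] R),
    (∀ i j, F (h i j) = F' (h i j)) → F = F'

variable {St : Gp k} {h : Matrix (Fin (t + 1)) (Fin (t + 1)) St.O}

theorem StabUniv.detB (hS : StabUniv St h) : IsUnit (h.submatrix Fin.succ Fin.succ).det := by
  have e : h.det = (h.submatrix Fin.succ Fin.succ).det := by
    rw [Matrix.det_succ_column_zero, Fin.sum_univ_succ, Finset.sum_eq_zero, add_zero]
    · rw [hS.col]
      simp [Fin.succAbove_zero]
    · intro i _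
      rw [hS.col, if_neg (Fin.succ_ne_zero i)]
      simp
  rw [← e]
  exact hS.det

/-- `O(GL_(t+1)) → O(St)` -/
def al (hS : StabUniv St h) : (K653.GpGL (t + 1) k).O →ₐc[k] St.O :=
  glHom h hS.det hS.comul hS.counit

/-- `O(GL_t) → O(St)`, the lower right block -/
def be (hS : StabUniv St h) : (K653.GpGL t k).O →ₐc[k] St.O :=
  glHom (h.submatrix Fin.succ Fin.succ) hS.detB
    (fun i j => by
      rw [Matrix.submatrix_apply, hS.comul, Fin.sum_univ_succ, hS.col, if_neg (Fin.succ_ne_zero i),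
        TensorProduct.zero_tmul, zero_add]
      rfl)
    (fun i j => by
      rw [Matrix.submatrix_apply, hS.counit]
      simp [Fin.succ_inj])

variable (G' : Gp k)

/-- `GL_(t+1) × (GL_t × G')` -/
abbrev bigG (k : Type u) [CommRing k] (t : ℕ) (G' : Gp k) : Gp k :=
  K749.prodGp (K653.GpGL (t + 1) k) (K749.prodGp (K653.GpGL t k) G')

/-- `O(G) → O(H)`, `x ⊗ (y ⊗ z) ↦ (al x * be y) ⊗ z` -/
def phi (hS : StabUniv St h) : (bigG k t G').O →ₐc[k] (K749.prodGp St G').O :=
  (Bialgebra.TensorProduct.map (pair (al hS) (be hS)) (BialgHom.id k G'.O)).comp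
    ((Bialgebra.TensorProduct.assoc k k (K653.GpGL (t + 1) k).O (K653.GpGL t k).O G'.O).symm :
      (K653.GpGL (t + 1) k).O ⊗[k] ((K653.GpGL t k).O ⊗[k] G'.O) →ₐc[k]
        ((K653.GpGL (t + 1) k).O ⊗[k] (K653.GpGL t k).O) ⊗[k] G'.O)

theorem phi_tmul (hS : StabUniv St h) (x : (K653.GpGL (t + 1) k).O) (y : (K653.GpGL t k).O) (z : G'.O) :
    phi G' hS (x ⊗ₜ[k] (y ⊗ₜ[k] z)) = (al hS x * be hS y) ⊗ₜ[k] z := rfl

/-- the entries of the universal matrix of `GL_n` -/
def xG (k : Type u) [CommRing k] (n : ℕ) (i j : Fin n) : (K653.GpGL n k).O := (CoordGrp.GLn.X i j : CoordGrp.GLn n k)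

theorem comul_xG (n : ℕ) (i j : Fin n) : Coalgebra.comul (R := k) (xG k n i j) = ∑ l, xG k n i l ⊗ₜ[k] xG k n l j :=
  CoordGrp.GLn.comul_X i j

theorem isUnit_det_xG (n : ℕ) : IsUnit (Matrix.of (xG k n)).det := by
  have h1 : IsUnit (CoordGrp.GLn.det : CoordGrp.GLn n k) := IsUnit.of_mul_eq_one _ CoordGrp.GLn.det_mul_Dinv
  rw [CoordGrp.GLn.det_eq] at h1
  exact h1

theorem isUnit_det_map {A B : Type u} [CommRing A] [CommRing B] [Algebra k A] [Algebra k B] {n : ℕ}
    (f : A →ₐ[k] B) (M : Matrix (Fin n) (Fin n) A) (hM : IsUnit M.det) : IsUnit (M.map f).det := by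
  have h1 := hM.map f
  rw [AlgHom.map_det] at h1
  exact h1

theorem al_xG (hS : StabUniv St h) (i j : Fin (t + 1)) : al hS (xG k (t + 1) i j) = h i j :=
  glHom_X _ _ _ _ i j

theorem be_xG (hS : StabUniv St h) (i j : Fin t) : be hS (xG k t i j) = h i.succ j.succ :=
  glHom_X _ _ _ _ i j

variable (t) in
/-- `a ↦ a ⊗ 1 ⊗ 1` -/
def i1 : (K653.GpGL (t + 1) k).O →ₐc[k] (bigG k t G').O :=
  inl (K653.GpGL (t + 1) k).O (K749.prodGp (K653.GpGL t k) G').O

variable (t) in
/-- `b ↦ 1 ⊗ b ⊗ 1` -/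
def i2 : (K653.GpGL t k).O →ₐc[k] (bigG k t G').O :=
  (inr (K653.GpGL (t + 1) k).O (K749.prodGp (K653.GpGL t k) G').O).comp (inl (K653.GpGL t k).O G'.O)

variable (t) in
/-- `c ↦ 1 ⊗ 1 ⊗ c` -/
def i3 : G'.O →ₐc[k] (bigG k t G').O :=
  (inr (K653.GpGL (t + 1) k).O (K749.prodGp (K653.GpGL t k) G').O).comp (inr (K653.GpGL t k).O G'.O)

theorem phi_i1 (hS : StabUniv St h) (a : (K653.GpGL (t + 1) k).O) :
    phi G' hS (i1 t G' a) = inl St.O G'.O (al hS a) := by
  change phi G' hS (a ⊗ₜ[k] ((1 : (K653.GpGL t k).O) ⊗ₜ[k] (1 : G'.O))) = _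
  rw [phi_tmul, map_one, mul_one]
  rfl

theorem phi_i2 (hS : StabUniv St h) (a : (K653.GpGL t k).O) : phi G' hS (i2 t G' a) = inl St.O G'.O (be hS a) := by
  change phi G' hS ((1 : (K653.GpGL (t + 1) k).O) ⊗ₜ[k] (a ⊗ₜ[k] (1 : G'.O))) = _
  rw [phi_tmul, map_one, one_mul]
  rfl

theorem phi_i3 (hS : StabUniv St h) (a : G'.O) : phi G' hS (i3 t G' a) = inr St.O G'.O a := by
  change phi G' hS ((1 : (K653.GpGL (t + 1) k).O) ⊗ₜ[k] ((1 : (K653.GpGL t k).O) ⊗ₜ[k] a)) = _
  rw [phi_tmul, map_one, map_one, one_mul]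
  rfl

/-- the coaction of `H` on the image of a bialgebra map `A → O(G)` -/
theorem rho_bialg {G H : Gp k} (φ : G.O →ₐc[k] H.O) {A : Type u} [CommRing A] [Bialgebra k A] (ι : A →ₐc[k] G.O)
    (a : A) : K711.rho φ (ι a) = Algebra.TensorProduct.map (ι : A →ₐ[k] G.O)
      ((φ : G.O →ₐ[k] H.O).comp (ι : A →ₐ[k] G.O)) (Coalgebra.comul (R := k) a) := by
  change Algebra.TensorProduct.map (AlgHom.id k G.O) (φ : G.O →ₐ[k] H.O) (Coalgebra.comul (R := k) (ι a)) = _
  rw [comul_bialgHom, ← AlgHom.comp_apply, ← Algebra.TensorProduct.map_comp]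
  rfl

variable (St) in
/-- `c ↦ 1 ⊗ c` -/
def ga0 : G'.O →ₐ[k] (K749.prodGp St G').O := (inr (k := k) St.O G'.O : G'.O →ₐ[k] St.O ⊗[k] G'.O)

theorem comul_ga0 (a : G'.O) : Coalgebra.comul (R := k) (ga0 St G' a) =
    Algebra.TensorProduct.map (ga0 St G') (ga0 St G') (Coalgebra.comul (R := k) a) :=
  comul_bialgHom (k := k) (inr (k := k) St.O G'.O) a

theorem phi_comp_i3 (hS : StabUniv St h) : (phi G' hS : (bigG k t G').O →ₐ[k] (K749.prodGp St G').O).comp
    (i3 t G' : G'.O →ₐ[k] (bigG k t G').O) = ga0 St G' :=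
  AlgHom.ext fun x => phi_i3 G' hS x

/-- **(D5)** the data of helper711's theorem, for `H = St × G'`. -/
def stabData (hS : StabUniv St h) : K711.StabData (phi G' hS) t where
  G0 := G'.O
  crG0 := inferInstance
  baG0 := inferInstance
  ga0 := ga0 St G'
  hga0 := comul_ga0 G'
  h := h.map (inl (k := k) St.O G'.O)
  hcol i := by
    change inl (k := k) St.O G'.O (h i 0) = _
    rw [hS.col]
    split_ifs
    · rw [map_one]
    · rw [map_zero]
  hcomul i j := by
    change Coalgebra.comul (R := k) (inl (k := k) St.O G'.O (h i j)) = _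
    rw [comul_bialgHom, hS.comul, map_sum]
    rfl
  lift R _ _ M γ h0 hM := by
    obtain ⟨F, hF⟩ := hS.lift R M h0 hM
    refine ⟨Algebra.TensorProduct.productMap F γ, fun i j => ?_, AlgHom.ext fun a => ?_⟩
    · change F (h i j) * γ 1 = _
      rw [map_one, mul_one, hF]
    · change F 1 * γ a = γ a
      rw [map_one, one_mul]
  ext R _ _ F F' h1 h2 := by
    refine Algebra.TensorProduct.ext ?_ ?_
    · exact hS.ext R _ _ fun i j => h1 i j
    · exact h2
  g1 := (Matrix.of (xG k (t + 1))).map (i1 t G' : (K653.GpGL (t + 1) k).O →ₐ[k] (bigG k t G').O)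
  g2 := (Matrix.of (xG k t)).map (i2 t G' : (K653.GpGL t k).O →ₐ[k] (bigG k t G').O)
  ga := (i3 t G' : G'.O →ₐ[k] (bigG k t G').O)
  hg1 i j := by
    refine (rho_bialg (phi G' hS) (i1 t G') (xG k (t + 1) i j)).trans ?_
    rw [comul_xG, map_sum]
    refine Finset.sum_congr rfl fun l _ => ?_
    rw [Algebra.TensorProduct.map_tmul]
    refine congrArg (fun z => i1 t G' (xG k (t + 1) i l) ⊗ₜ[k] z) ?_
    refine (phi_i1 G' hS _).trans ?_
    rw [al_xG]
    rfl
  hg2 i j := by
    refine (rho_bialg (phi G' hS) (i2 t G') (xG k t i j)).trans ?_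
    rw [comul_xG, map_sum]
    refine Finset.sum_congr rfl fun l _ => ?_
    rw [Algebra.TensorProduct.map_tmul]
    refine congrArg (fun z => i2 t G' (xG k t i l) ⊗ₜ[k] z) ?_
    refine (phi_i2 G' hS _).trans ?_
    rw [be_xG]
    rfl
  hga a := by
    refine (rho_bialg (phi G' hS) (i3 t G') a).trans ?_
    rw [phi_comp_i3]
  hd1 := isUnit_det_map _ _ (isUnit_det_xG (t + 1))
  hd2 := isUnit_det_map _ _ (isUnit_det_xG t)

end Main

/-! ### the model `K58.Fr 0 e_0` -/

section Model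

variable (k : Type u) [CommRing k] (t : ℕ)

/-- the group `{h ∈ GL_(t+1) : h e_1 = e_1}` -/
def stabGp : Gp k := (K374.univ_stab (k := k) (0 : Fin (t + 1))).gp

/-- its universal matrix -/
def stabMat : Matrix (Fin (t + 1)) (Fin (t + 1)) (stabGp k t).O := K58.mat (0 : Fin (t + 1)) (Pi.single 0 1 : Fin (t + 1) → k)

theorem stabUniv : StabUniv (stabGp k t) (stabMat k t) where
  col := (K374.univ_stab (k := k) (0 : Fin (t + 1))).mem.1
  det := (K374.univ_stab (k := k) (0 : Fin (t + 1))).mem.2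
  comul := (K374.univ_stab (k := k) (0 : Fin (t + 1))).comul_apply
  counit := (K374.univ_stab (k := k) (0 : Fin (t + 1))).counit_apply
  lift R _ _ M h0 hM := by
    obtain ⟨f, hf, -⟩ := (K374.univ_stab (k := k) (0 : Fin (t + 1))).lift R M ⟨h0, hM⟩
    exact ⟨f, fun i j => congrFun (congrFun hf i) j⟩
  ext R _ _ F F' hF := (K374.univ_stab (k := k) (0 : Fin (t + 1))).ext (by
    ext i j
    exact hF i j)

/-- `Stab(e_1) × G'` -/
abbrev stabH (G' : Gp k) : Gp k := K749.prodGp (stabGp k t) G'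

/-- `Stab(e_1) × G' → GL_(t+1) × (GL_t × G')` on coordinate rings -/
abbrev phiStab (G' : Gp k) : (bigG k t G').O →ₐc[k] (stabH k t G').O := phi G' (stabUniv k t)

/-- **(D5)** -/
def stabDataReal (G' : Gp k) : K711.StabData (phiStab k t G') t := stabData G' (stabUniv k t)

end Model

end Groth.Agent.ResProp.EF.K41
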