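import Groth.Agent.ResProp.EF.K41.Phi
import Groth.Agent.ResProp.EF.K374.StabProd

/-!
# (D5) for helper374's groups `K374.HH k t G' = St × G'`, `K374.GG k t G' = GL_(t+1) × (GL_t × G')`
-/

set_option autoImplicit false
set_option maxHeartbeats 400000

universe u

open TensorProduct
open Groth.Agent.ResProp.EF.Grp

noncomputable section

namespace Groth.Agent.ResProp.EF.K41

variable (k : Type u) [CommRing k] (t : ℕ) (G' : Gp k)

theorem stabUniv374 : StabUniv (K374.St k t) (K374.mS k t) where
  col := K374.mS_col k t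
  det := K374.mS_det k t
  comul := K374.comul_mS k t
  counit := K374.counit_mS k t
  lift R _ _ M h0 hM := by
    obtain ⟨f, hf, -⟩ := (K374.univS k t).lift R M ⟨h0, hM⟩
    exact ⟨f, fun i j => congrFun (congrFun hf i) j⟩
  ext R _ _ F F' hF := (K374.univS k t).ext (by
    ext i j
    exact hF i j)

/-- `O(GG) → O(HH)` -/
abbrev phiHH : (K374.GG k t G').O →ₐc[k] (K374.HH k t G').O := phi G' (stabUniv374 k t)

/-- **(D5)** `StabData` for `K374.HH k t G'` -/
def stabDataHH : K711.StabData (phiHH k t G') t := stabData G' (stabUniv374 k t)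

/-- **(CD2)** for `K374.HH k t G'`, from the statement (T) -/
theorem cd2_HH (hTS : K711.TorsStmt.{u}) (p : ℕ) (hp : p.Prime) (hk : (Ideal.span {(p : k)}).IsMaximal) :
    K65.CD2 p (K374.GG k t G') (K374.HH k t G') (phiHH k t G') :=
  K711.cd2_of_stab hTS (phiHH k t G') p hp hk t (stabDataHH k t G')

end Groth.Agent.ResProp.EF.K41
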