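import Groth.Agent.ResProp.EF.K294.Tor

/-!
# `TorGE` under flat base change and flat restriction of scalars

`t, s : A → B` flat ring maps: `TorGE a K → TorGE a ((B ⊗_{A, t} K)|_s)`; the field `torGE_ul` of `K294.Chart`.
-/

set_option autoImplicit false
set_option backward.defeqAttrib.useBackward true
set_option backward.isDefEq.respectTransparency false

universe u
set_option maxHeartbeats 400000

open CategoryTheory CategoryTheory.Limits MonoidalCategory HomologicalComplex TensorProduct

namespace Groth.Agent.ResProp.EF.K41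

open Groth.Agent.PerfB Groth.Agent.PerfB.RingKFlat Groth.Agent.ResProp.EF.K294 Groth.Agent.Dcoh.KFlatAbs

section

variable {R S : Type u} [CommRing R] [CommRing S] [Algebra R S]

lemma exactAt_res {K : CM S} {i : ℤ} (h : K.ExactAt i) :
    (((res R S).mapHomologicalComplex (ComplexShape.up ℤ)).obj K).ExactAt i :=
  ShortComplex.Exact.map h (res R S)

lemma exactAt_of_res {K : CM S} {i : ℤ}
    (h : (((res R S).mapHomologicalComplex (ComplexShape.up ℤ)).obj K).ExactAt i) : K.ExactAt i :=
  (res R S).reflects_exact_of_faithful (K.sc i) h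

lemma isTest_ext [Module.Flat R S] {L : CM R} (hL : IsTest L) :
    IsTest (((ext R S).mapHomologicalComplex (ComplexShape.up ℤ)).obj L) where
  le := by
    have := hL.le
    infer_instance
  flat n := by
    have := hL.flat n
    change Module.Flat S (S ⊗[R] L.X n)
    infer_instance
  exact i hi := by
    apply exactAt_of_res (R := R)
    have h1 := hL.exact i hi
    have h2 : (tensorLeft (ModuleCat.of R S) : ModuleCat.{u} R ⥤ _).PreservesHomology :=
      preservesHomology_tensorLeft (ModuleCat.of R S) (by change Module.Flat R S; infer_instance)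
    have h3 : (((tensorLeft (ModuleCat.of R S)).mapHomologicalComplex (ComplexShape.up ℤ)).obj L).ExactAt i :=
      ShortComplex.Exact.map h1 (tensorLeft (ModuleCat.of R S))
    exact h3.of_iso ((NatIso.mapHomologicalComplex (extResIso R S) (ComplexShape.up ℤ)).app L).symm

lemma isTest_res [Module.Flat R S] {L : CM S} (hL : IsTest L) :
    IsTest (((res R S).mapHomologicalComplex (ComplexShape.up ℤ)).obj L) where
  le := by
    have := hL.le
    infer_instance
  flat n := by
    have h1 := hL.flat n
    letI : Module R (L.X n) := Module.compHom (L.X n) (algebraMap R S)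
    haveI : IsScalarTower R S (L.X n) := IsScalarTower.of_algebraMap_smul (fun _ _ => rfl)
    change Module.Flat R (L.X n)
    exact Module.Flat.trans R S (L.X n)
  exact i hi := exactAt_res (hL.exact i hi)

/-- restriction of scalars along a flat ring map preserves `TorGE`. -/
theorem torGE_res [Module.Flat R S] {a : ℤ} {K : CM S} (hK : TorGE a K) :
    TorGE a (((res R S).mapHomologicalComplex (ComplexShape.up ℤ)).obj K) := by
  intro L hL i hi
  have h1 : (tens K (((ext R S).mapHomologicalComplex (ComplexShape.up ℤ)).obj L)).ExactAt i :=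
    hK _ (isTest_ext hL) i hi
  exact (exactAt_res (R := R) h1).of_iso (BifCompare.iso (cbcData R S) K L).symm

/-- `((S ⊗_R M) ⊗_S N)|_R ≅ M ⊗_R N|_R` (linear equivalence) -/
noncomputable def cbcEquiv' (M : ModuleCat.{u} R) (N : ModuleCat.{u} S) :
    (res R S).obj ((RingKFlat.ext R S).obj M ⊗ N) ≃ₗ[R] (M ⊗ (res R S).obj N : ModuleCat.{u} R) :=
  letI : Module R N := Module.compHom N (algebraMap R S)
  haveI : IsScalarTower R S N := IsScalarTower.of_algebraMap_smul (fun _ _ => rfl)
  { (((TensorProduct.comm S (S ⊗[R] M) N).toAddEquiv.trans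
      (TensorProduct.AlgebraTensorModule.cancelBaseChange R S S N M).toAddEquiv).trans
      (TensorProduct.comm R N M).toAddEquiv) with
    map_smul' := fun r x => by
      have h1 := (TensorProduct.comm S (S ⊗[R] M) N).map_smul (algebraMap R S r) x
      have h2 := (TensorProduct.AlgebraTensorModule.cancelBaseChange R S S N M).map_smul
        (algebraMap R S r) (TensorProduct.comm S (S ⊗[R] M) N x)
      have h3 := (TensorProduct.comm R N M).map_smul r
        (TensorProduct.AlgebraTensorModule.cancelBaseChange R S S N M (TensorProduct.comm S (S ⊗[R] M) N x))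
      have h4 := algebraMap_smul S r
        ((TensorProduct.AlgebraTensorModule.cancelBaseChange R S S N M) (TensorProduct.comm S (S ⊗[R] M) N x))
      refine (congrArg (TensorProduct.comm R N M) ?_).trans h3
      refine (congrArg _ h1).trans (h2.trans h4) }

lemma cbcEquiv'_tmul (M : ModuleCat.{u} R) (N : ModuleCat.{u} S) (s : S) (m : M) (n : N) :
    cbcEquiv' M N ((((s ⊗ₜ[R] m) ⊗ₜ[S] n : (S ⊗[R] M) ⊗[S] N)) : (res R S).obj ((RingKFlat.ext R S).obj M ⊗ N)) =
      m ⊗ₜ[R] (show (res R S).obj N from (s • n : N)) := rfl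

/-- two linear maps out of `((S ⊗_R M) ⊗_S N)|_R` agree if they agree on `(s ⊗ m) ⊗ n` -/
lemma hom_ext_cbc' (M : ModuleCat.{u} R) (N : ModuleCat.{u} S) {A : ModuleCat.{u} R}
    (f g : (res R S).obj ((RingKFlat.ext R S).obj M ⊗ N) ⟶ A)
    (h : ∀ (s : S) (m : M) (n : N),
      f ((((s ⊗ₜ[R] m) ⊗ₜ[S] n : (S ⊗[R] M) ⊗[S] N)) : (res R S).obj ((RingKFlat.ext R S).obj M ⊗ N)) =
      g ((((s ⊗ₜ[R] m) ⊗ₜ[S] n : (S ⊗[R] M) ⊗[S] N)) : (res R S).obj ((RingKFlat.ext R S).obj M ⊗ N))) :
    f = g := by
  ext1
  apply LinearMap.ext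
  intro x
  change (S ⊗[R] M) ⊗[S] N at x
  induction x using TensorProduct.induction_on with
  | zero => exact (map_zero f.hom).trans (map_zero g.hom).symm
  | add x y hx hy => exact (map_add f.hom x y).trans ((congrArg₂ (· + ·) hx hy).trans (map_add g.hom x y).symm)
  | tmul y n =>
    induction y using TensorProduct.induction_on with
    | zero =>
      have e : ((0 : S ⊗[R] M) ⊗ₜ[S] n : (S ⊗[R] M) ⊗[S] N) = 0 := TensorProduct.zero_tmul _ n
      rw [e]
      exact (map_zero f.hom).trans (map_zero g.hom).symm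
    | add y z hy hz =>
      have e : ((y + z : S ⊗[R] M) ⊗ₜ[S] n : (S ⊗[R] M) ⊗[S] N) = y ⊗ₜ[S] n + z ⊗ₜ[S] n :=
        TensorProduct.add_tmul y z n
      rw [e]
      exact (map_add f.hom _ _).trans ((congrArg₂ (· + ·) hy hz).trans (map_add g.hom _ _).symm)
    | tmul s m => exact h s m n

variable (R S)

/-- The bifunctor `(M, N) ↦ (S ⊗_R M) ⊗_S N`. -/
noncomputable abbrev TS' : ModuleCat.{u} R ⥤ ModuleCat.{u} S ⥤ ModuleCat.{u} S :=
  RingKFlat.ext R S ⋙ curriedTensor (ModuleCat.{u} S)

instance (M : ModuleCat.{u} R) : ((TS' R S).obj M).Additive :=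
  inferInstanceAs (((curriedTensor (ModuleCat.{u} S)).obj ((RingKFlat.ext R S).obj M)).Additive)

/-- `((S ⊗_R M) ⊗_S N)|_R ≅ M ⊗_R N|_R`, naturally. -/
noncomputable def cbcData' : BifCompare.Data (TS' R S) (TR R) (𝟭 _) (res R S) (res R S) where
  e M N := (cbcEquiv' M N).toModuleIso
  nat₁ {M M'} f N := by
    apply hom_ext_cbc'
    intro s m n
    rfl
  nat₂ M {N N'} g := by
    apply hom_ext_cbc'
    intro s m n
    change m ⊗ₜ[R] (show (res R S).obj N' from (s • g.hom n : N')) =
      m ⊗ₜ[R] (show (res R S).obj N' from (g.hom (s • n) : N'))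
    rw [g.hom.map_smul]

variable {R S}

/-- flat base change preserves `TorGE`. -/
theorem torGE_ext [Module.Flat R S] {a : ℤ} {K : CM R} (hK : TorGE a K) :
    TorGE a (((RingKFlat.ext R S).mapHomologicalComplex (ComplexShape.up ℤ)).obj K) := by
  intro L hL i hi
  have h1 : (tens K (((res R S).mapHomologicalComplex (ComplexShape.up ℤ)).obj L)).ExactAt i :=
    hK _ (isTest_res hL) i hi
  apply exactAt_of_res (R := R)
  exact h1.of_iso (BifCompare.iso (cbcData' R S) K L)

end

section two

variable {A B : Type u} [CommRing A] [CommRing B]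

/-- base change along a ring map -/
noncomputable def extAlong (t : A →+* B) : ModuleCat.{u} A ⥤ ModuleCat.{u} B :=
  letI := t.toAlgebra
  RingKFlat.ext A B

instance (t : A →+* B) : (extAlong t).Additive := by
  letI := t.toAlgebra
  exact inferInstanceAs ((RingKFlat.ext A B).Additive)

lemma torGE_extAlong (t : A →+* B) (ht : t.Flat) {a : ℤ} {K : CM A} (hK : TorGE a K) :
    TorGE a (((extAlong t).mapHomologicalComplex (ComplexShape.up ℤ)).obj K) := by
  letI := t.toAlgebra
  haveI : Module.Flat A B := ht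
  exact torGE_ext hK

lemma torGE_restrictScalars (s : A →+* B) (hs : s.Flat) {a : ℤ} {K : CM B} (hK : TorGE a K) :
    TorGE a (((ModuleCat.restrictScalars s).mapHomologicalComplex (ComplexShape.up ℤ)).obj K) := by
  letI := s.toAlgebra
  haveI : Module.Flat A B := hs
  exact torGE_res hK

/-- **`TorGE` is preserved by `K ↦ (B ⊗_{A, t} K)|_s` for flat `s t : A → B`.** -/
theorem torGE_extAlong_res (s t : A →+* B) (hs : s.Flat) (ht : t.Flat) {a : ℤ} {K : CM A} (hK : TorGE a K) :
    TorGE a (((extAlong t ⋙ ModuleCat.restrictScalars s).mapHomologicalComplex (ComplexShape.up ℤ)).obj K) :=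
  (torGE_restrictScalars s hs (torGE_extAlong t ht hK)).of_iso
    (HomologicalComplex.Hom.isoOfComponents (fun _ => Iso.refl _) (by
      intro i j _
      rw [Iso.refl_hom, Iso.refl_hom, Category.id_comp, Category.comp_id]))

/-- the same for any functor isomorphic to `extAlong t ⋙ restrictScalars s` -/
theorem torGE_of_natIso (s t : A →+* B) (hs : s.Flat) (ht : t.Flat) (G : ModuleCat.{u} A ⥤ ModuleCat.{u} A)
    [G.Additive] (e : G ≅ extAlong t ⋙ ModuleCat.restrictScalars s) {a : ℤ} {K : CM A} (hK : TorGE a K) :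
    TorGE a ((G.mapHomologicalComplex (ComplexShape.up ℤ)).obj K) :=
  (torGE_extAlong_res s t hs ht hK).of_iso ((NatIso.mapHomologicalComplex e (ComplexShape.up ℤ)).app K).symm

end two

end Groth.Agent.ResProp.EF.K41
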